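import Cfsg.Agent.Lib.Derangement.Basic
import Cfsg.Agent.Lib.Core.Basic

/-!
Normal subgroups of finite faithful primitive groups: nilpotent normal subgroups are abelian,
regular, self-centralizing and elementary; free actions; the conjugation representation
on an elementary abelian normal subgroup.
-/

set_option autoImplicit false

namespace Cfsg.Agent.Lib.ExtPrim

open MulAction Cfsg.Agent.Lib.Derangement

variable {H : Type*} [Group H] [Finite H] {X : Type*} [MulAction H X] [FaithfulSMul H X]
  [IsPreprimitive H X]

/-- A nilpotent non-trivial normal subgroup of a primitive group is abelian, self-centralizing and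
transitive. -/
theorem nilpotent_normal_structure [Nonempty X] {A : Subgroup H} [hAn : A.Normal] (hA : A ≠ ⊥)
    (hnil : Group.IsNilpotent A) :
    (∀ x ∈ A, ∀ y ∈ A, x * y = y * x) ∧ (∀ c : H, (∀ a ∈ A, c * a = a * c) → c ∈ A) ∧
      Trans A X := by
  classical
  -- the centre of `A`
  let Z : Subgroup H := A ⊓ Subgroup.centralizer (A : Set H)
  have hZn : Z.Normal := inferInstance
  have hZb : Z ≠ ⊥ := by
    have hnt : Nontrivial A := (Subgroup.nontrivial_iff_ne_bot A).mpr hA
    have hc : Nontrivial (Subgroup.center A) := by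
      have h0 := Cfsg.Agent.Lib.Core.normal_inf_center_ne_bot (G := A) ⊤ top_ne_bot
      rw [top_inf_eq] at h0
      exact (Subgroup.nontrivial_iff_ne_bot _).mpr h0
    obtain ⟨⟨z, hz⟩, hz1⟩ := exists_ne (1 : Subgroup.center A)
    intro hZ
    have hzZ : (z : H) ∈ Z := by
      refine ⟨z.2, ?_⟩
      change (z : H) ∈ Subgroup.centralizer (A : Set H)
      rw [Subgroup.mem_centralizer_iff]
      intro a ha
      have := (Subgroup.mem_center_iff.mp hz) ⟨a, ha⟩
      exact congrArg Subtype.val this
    rw [hZ, Subgroup.mem_bot] at hzZ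
    apply hz1
    ext
    simpa using hzZ
  have TZ : Trans Z X := trans_of_normal hZb
  obtain ⟨x₀⟩ := ‹Nonempty X›
  have key : ∀ c : H, (∀ z ∈ Z, c * z = z * c) → c ∈ Z := by
    intro c hc
    obtain ⟨z, hz, hzc⟩ := TZ x₀ (c • x₀)
    have h1 : z⁻¹ * c = 1 := by
      apply eq_one_of_commute_of_fix TZ (ω := x₀)
      · intro s hs
        have hzs : z * s = s * z :=
          (Subgroup.mem_centralizer_iff.mp (show s ∈ Subgroup.centralizer (A : Set H) from hs.2)) z hz.1
        calc z⁻¹ * c * s = z⁻¹ * (c * s) := by group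
          _ = z⁻¹ * (s * c) := by rw [hc s hs]
          _ = z⁻¹ * s * c := by group
          _ = s * z⁻¹ * c := by
            congr 1
            rw [inv_mul_eq_iff_eq_mul, ← mul_assoc, hzs, mul_assoc, mul_inv_cancel, mul_one]
          _ = s * (z⁻¹ * c) := by group
      · rw [mul_smul, ← hzc, inv_smul_smul]
    have h2 : c = z := by
      rw [inv_mul_eq_one] at h1
      exact h1.symm
    rw [h2]
    exact hz
  have hAZ : A ≤ Z := by
    intro a ha
    apply key
    intro z hz
    exact (Subgroup.mem_centralizer_iff.mp (show z ∈ Subgroup.centralizer (A : Set H) from hz.2)) a ha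
  refine ⟨?_, ?_, ?_⟩
  · intro x hx y hy
    exact (Subgroup.mem_centralizer_iff.mp (show y ∈ Subgroup.centralizer (A : Set H) from (hAZ hy).2)) x hx
  · intro c hc
    apply (inf_le_left : Z ≤ A)
    apply key
    intro z hz
    exact hc z hz.1
  · exact trans_of_normal hA

/-- A non-trivial abelian primitive group has prime order. -/
theorem prime_card_of_comm [Nonempty X] [Nontrivial H] (hcomm : ∀ a b : H, a * b = b * a) :
    (Nat.card H).Prime := by
  classical
  have hcard : Nat.card H ≠ 1 := (Finite.one_lt_card_iff_nontrivial.mpr ‹_›).ne'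
  obtain ⟨r, hr, hrd⟩ := Nat.exists_prime_and_dvd hcard
  have : Fact r.Prime := ⟨hr⟩
  obtain ⟨x, hx⟩ := exists_prime_orderOf_dvd_card' r hrd
  have hn : (Subgroup.zpowers x).Normal := by
    constructor
    intro n hn g
    rw [hcomm g n, mul_assoc, mul_inv_cancel, mul_one]
    exact hn
  have hb : Subgroup.zpowers x ≠ ⊥ := by
    intro h
    rw [Subgroup.zpowers_eq_bot] at h
    rw [h, orderOf_one] at hx
    exact hr.one_lt.ne hx
  have T : Trans (Subgroup.zpowers x) X := trans_of_normal hb
  have htop : Subgroup.zpowers x = ⊤ := by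
    rw [eq_top_iff]
    intro y _
    obtain ⟨x₀⟩ := ‹Nonempty X›
    obtain ⟨z, hz, hzc⟩ := T x₀ (y • x₀)
    have h1 : z⁻¹ * y = 1 := by
      apply eq_one_of_commute_of_fix T (ω := x₀)
      · intro s _
        exact hcomm _ _
      · rw [mul_smul, ← hzc, inv_smul_smul]
    rw [inv_mul_eq_one] at h1
    rw [← h1]
    exact hz
  have : Nat.card H = r := by
    rw [← hx, ← Nat.card_zpowers, htop]
    exact Subgroup.card_top.symm
  rw [this]
  exact hr

/-- An abelian non-trivial normal subgroup of a primitive group has exponent a prime. -/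
theorem exists_prime_exponent [Nonempty X] {A : Subgroup H} [hAn : A.Normal] (hA : A ≠ ⊥)
    (hab : ∀ x ∈ A, ∀ y ∈ A, x * y = y * x) :
    ∃ p : ℕ, p.Prime ∧ ∀ x ∈ A, x ^ p = 1 := by
  classical
  have hnt : Nontrivial A := (Subgroup.nontrivial_iff_ne_bot A).mpr hA
  have hcard : Nat.card A ≠ 1 := (Finite.one_lt_card_iff_nontrivial.mpr hnt).ne'
  obtain ⟨p, hp, hpd⟩ := Nat.exists_prime_and_dvd hcard
  have : Fact p.Prime := ⟨hp⟩
  obtain ⟨x, hx⟩ := exists_prime_orderOf_dvd_card' p hpd
  refine ⟨p, hp, ?_⟩
  let P : Subgroup H :=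
    { carrier := {y | y ∈ A ∧ y ^ p = 1}
      mul_mem' := by
        rintro a b ⟨ha, ha'⟩ ⟨hb, hb'⟩
        refine ⟨A.mul_mem ha hb, ?_⟩
        rw [(show Commute a b from hab a ha b hb).mul_pow, ha', hb', one_mul]
      one_mem' := ⟨A.one_mem, one_pow _⟩
      inv_mem' := by
        rintro a ⟨ha, ha'⟩
        exact ⟨A.inv_mem ha, by rw [inv_pow, ha', inv_one]⟩ }
  have hPn : P.Normal := by
    constructor
    rintro n ⟨hn, hn'⟩ g
    refine ⟨hAn.conj_mem n hn g, ?_⟩
    rw [conj_pow, hn']
    simp
  have hPb : P ≠ ⊥ := by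
    intro h
    have hmem : (x : H) ∈ P := by
      refine ⟨x.2, ?_⟩
      have := pow_orderOf_eq_one x
      rw [hx] at this
      have h2 := congrArg Subtype.val this
      simpa using h2
    rw [h, Subgroup.mem_bot] at hmem
    have hx1 : x = 1 := Subtype.ext hmem
    rw [hx1, orderOf_one] at hx
    exact hp.one_lt.ne hx
  have T : Trans P X := trans_of_normal hPb
  obtain ⟨x₀⟩ := ‹Nonempty X›
  intro f hf
  obtain ⟨q, hq, hqc⟩ := T x₀ (f • x₀)
  have h1 : q⁻¹ * f = 1 := by
    apply eq_one_of_commute_of_fix T (ω := x₀)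
    · intro s hs
      exact hab _ (A.mul_mem (A.inv_mem hq.1) hf) _ hs.1
    · rw [mul_smul, ← hqc, inv_smul_smul]
  rw [inv_mul_eq_one] at h1
  rw [← h1]
  exact hq.2

end Cfsg.Agent.Lib.ExtPrim

namespace Cfsg.Agent.Lib.ExtPrim

open MulAction

/-- The order of a freely acting group divides the number of points. -/
theorem card_dvd_of_free {Γ Y : Type*} [Group Γ] [Finite Γ] [Finite Y] [MulAction Γ Y]
    (hfree : ∀ (γ : Γ) (y : Y), γ • y = y → γ = 1) : Nat.card Γ ∣ Nat.card Y := by
  classical
  have hfin : Fintype (orbitRel.Quotient Γ Y) := Fintype.ofFinite _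
  rw [Nat.card_congr (MulAction.selfEquivSigmaOrbits Γ Y), Nat.card_sigma]
  apply Finset.dvd_sum
  intro q _
  have : Nat.card Γ = Nat.card (orbit Γ (q.out : Y)) := by
    apply Nat.card_congr
    refine Equiv.ofBijective (fun γ => ⟨γ • (q.out : Y), mem_orbit _ _⟩) ⟨?_, ?_⟩
    · intro a b h
      have h1 : a • (q.out : Y) = b • (q.out : Y) := congrArg Subtype.val h
      have h2 : (b⁻¹ * a) • (q.out : Y) = q.out := by rw [mul_smul, h1, inv_smul_smul]
      have h3 := hfree _ _ h2
      rw [inv_mul_eq_one] at h3
      exact h3.symm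
    · rintro ⟨_, γ, rfl⟩
      exact ⟨γ, rfl⟩
  rw [this]

/-- Matrices from an action by additive endomorphisms on a finite `ZMod p` module. -/
theorem exists_rep_aux {p : ℕ} [Fact p.Prime] {H V : Type*} [Group H] [AddCommGroup V]
    [Module (ZMod p) V] [Finite V] (c : H →* AddMonoid.End V) :
    ∃ e : ℕ, Nat.card V = p ^ e ∧ ∃ φ : H →* GL (Fin e) (ZMod p), ∀ h : H, φ h = 1 ↔ c h = 1 := by
  classical
  have iFinD : Module.Finite (ZMod p) V := Module.Finite.of_finite
  let b := Module.finBasis (ZMod p) V
  refine ⟨Module.finrank (ZMod p) V, ?_, ?_⟩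
  · have hfintype : Fintype V := Fintype.ofFinite _
    have h1 := Module.card_eq_pow_finrank (K := ZMod p) (V := V)
    rw [ZMod.card] at h1
    rw [← h1, Nat.card_eq_fintype_card]
  · let lin : H → (V →ₗ[ZMod p] V) := fun h => AddMonoidHom.toZModLinearMap p (c h)
    have hlin : ∀ h x, lin h x = c h x := fun _ _ => rfl
    let φ₀ : H →* Matrix (Fin (Module.finrank (ZMod p) V)) (Fin (Module.finrank (ZMod p) V))
        (ZMod p) :=
      { toFun := fun h => LinearMap.toMatrixAlgEquiv b (lin h)
        map_one' := by
          have : lin 1 = 1 := by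
            ext x
            simp [hlin]
          rw [this]
          exact map_one _
        map_mul' := by
          intro g h
          have : lin (g * h) = lin g * lin h := by
            ext x
            simp [hlin]
          rw [this]
          exact map_mul _ _ _ }
    refine ⟨φ₀.toHomUnits, ?_⟩
    intro h
    constructor
    · intro hh
      have h1 : φ₀ h = 1 := by
        have := congrArg Units.val hh
        simpa using this
      have h2 : lin h = 1 := by
        apply (LinearMap.toMatrixAlgEquiv b).injective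
        rw [map_one]
        exact h1
      ext x
      have := congrArg (fun f => f x) h2
      simpa [hlin] using this
    · intro hh
      apply Units.ext
      have h2 : lin h = 1 := by
        ext x
        simp [hlin, hh]
      change LinearMap.toMatrixAlgEquiv b (lin h) = _
      rw [h2, map_one]
      rfl

/-- The conjugation representation on an elementary abelian normal subgroup. -/
theorem exists_rep {H : Type*} [Group H] [Finite H] (F : Subgroup H) [hFn : F.Normal] {p : ℕ}
    (hp : p.Prime) (hab : ∀ x ∈ F, ∀ y ∈ F, x * y = y * x) (hexp : ∀ x ∈ F, x ^ p = 1) :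
    ∃ e : ℕ, Nat.card F = p ^ e ∧
      ∃ φ : H →* GL (Fin e) (ZMod p), ∀ h : H, φ h = 1 ↔ ∀ x ∈ F, h * x = x * h := by
  classical
  have : Fact p.Prime := ⟨hp⟩
  letI iF : CommGroup F := { (inferInstance : Group F) with
    mul_comm := fun a b => Subtype.ext (hab a a.2 b b.2) }
  have hnsmul : ∀ x : Additive F, p • x = 0 := by
    intro x
    apply Additive.toMul.injective
    apply Subtype.ext
    simpa using hexp _ (Additive.toMul x).2
  letI iM : Module (ZMod p) (Additive F) := AddCommGroup.zmodModule hnsmul
  have hfinV : Finite (Additive F) := inferInstanceAs (Finite F)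
  let c : H →* AddMonoid.End (Additive F) :=
    { toFun := fun h =>
        { toFun := fun x => Additive.ofMul ⟨h * (Additive.toMul x : F) * h⁻¹,
            hFn.conj_mem _ (Additive.toMul x).2 h⟩
          map_zero' := by
            apply Additive.toMul.injective
            apply Subtype.ext
            simp
          map_add' := by
            intro x y
            apply Additive.toMul.injective
            apply Subtype.ext
            simp [mul_assoc] }
      map_one' := by
        ext x
        change 1 * ((Additive.toMul x : F) : H) * 1⁻¹ = ((Additive.toMul x : F) : H)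
        simp
      map_mul' := by
        intro g h
        ext x
        change g * h * ((Additive.toMul x : F) : H) * (g * h)⁻¹ =
          g * (h * ((Additive.toMul x : F) : H) * h⁻¹) * g⁻¹
        group }
  have hc : ∀ h x, Additive.toMul (c h x) = ⟨h * (Additive.toMul x : F) * h⁻¹,
            hFn.conj_mem _ (Additive.toMul x).2 h⟩ := fun _ _ => rfl
  obtain ⟨e, he, φ, hφ⟩ := exists_rep_aux (p := p) c
  refine ⟨e, ?_, φ, ?_⟩
  · rw [← he]
    exact Nat.card_congr Additive.ofMul.symm.symm
  · intro h
    rw [hφ]
    constructor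
    · intro hh x hx
      have h3 := congrArg (fun f : AddMonoid.End (Additive F) =>
        Additive.toMul (f (Additive.ofMul (⟨x, hx⟩ : F)))) hh
      simp only [hc] at h3
      have h4 : h * x * h⁻¹ = x := congrArg Subtype.val h3
      rw [mul_inv_eq_iff_eq_mul] at h4
      exact h4
    · intro hh
      ext x
      have := hh _ (Additive.toMul x).2
      change h * ((Additive.toMul x : F) : H) * h⁻¹ = ((Additive.toMul x : F) : H)
      rw [this]
      group

end Cfsg.Agent.Lib.ExtPrim
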